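import Cfsg.Agent.H67.PSLTwoByOrder

/-!
`PSL(2,q)`, `q ≡ 1 (mod 4)`, from its order and the isolation of the defining prime.
-/

set_option autoImplicit false
set_option linter.unusedSectionVars false
set_option linter.style.haveILetI false

namespace Cfsg.Agent.H46.PSLSquare

open MulAction H67.IsolatedPrime H67.PSLTwoByOrder

variable {G : Type*} [Group G] [Finite G] {p q n : ℕ} [hp : Fact p.Prime]

/-- Recognition of `PSL(2,q)`. -/
theorem nonempty_psl_one_mod_four (hq : q = p ^ n) (hn : 1 ≤ n) (h4 : 4 ≤ q)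
    (hG : Nat.gcd 2 (q - 1) * Nat.card G = q * (q ^ 2 - 1)) (hE : Isolated p G)
    (h14 : q % 4 = 1)
    {F : Type*} [Field F] [Fintype F] (hF : Fintype.card F = q) :
    Nonempty (G ≃* Matrix.ProjectiveSpecialLinearGroup (Fin 2) F) := by
  classical
  set d := Nat.gcd 2 (q - 1) with hd
  have hd2 : d ≤ 2 := Nat.le_of_dvd two_pos (Nat.gcd_dvd_left _ _)
  have hd1 : 1 ≤ d := Nat.gcd_pos_of_pos_left _ two_pos
  obtain ⟨e, he⟩ : d ∣ q - 1 := Nat.gcd_dvd_right _ _
  have he2 : 2 ≤ e := by
    by_contra h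
    have h5 : d * e ≤ 2 * 1 := Nat.mul_le_mul hd2 (by omega)
    omega
  have hG' : Nat.card G = q * ((q + 1) * e) := by
    refine Nat.eq_of_mul_eq_mul_left hd1 ?_
    rw [hG, show q ^ 2 - 1 = (q + 1) * (q - 1) by rw [← Nat.sq_sub_sq, one_pow], he]
    ring
  have D := exists_data hq hn h4 hd1 hd2 he.symm he2 hG' hE
  have hodd : Odd q := Nat.odd_iff.2 (by omega)
  have hdq : d = 2 := by
    have : 2 ∣ q - 1 := by obtain ⟨w, hw⟩ := hodd; omega
    exact Nat.gcd_eq_left this
  have hhalf : 2 * e + 1 = q := by rw [hdq] at he; omega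
  have hfaith := faithful D hE h4
  obtain ⟨A⟩ : Nonempty (Sylow p G) := inferInstance
  obtain ⟨B, hB⟩ : ∃ B : Sylow p G, B ≠ A := by
    have : 1 < Nat.card (Sylow p G) := by rw [D.count]; omega
    have := Finite.one_lt_card_iff_nontrivial.1 this
    exact exists_ne A
  have hcomm := comm_sylow_odd D hE hq h4 hodd hhalf A
  have hpodd : p ≠ 2 := fun h => (Nat.not_even_iff_odd.2 hodd)
    (hq ▸ Nat.even_pow.2 ⟨h ▸ even_two, by omega⟩)
  have hZ : Cfsg.IsZassenhausGroup G (Sylow p G) := by
    refine ⟨hfaith, two_trans D, fun g a b c hab hbc hac => three_fixed D hE g a b c hab hbc hac,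
      ?_, ?_⟩
    · have h1 : 1 < Nat.card ↥(stabilizer G A ⊓ stabilizer G B) := by rw [D.pair A B hB]; omega
      have := Finite.one_lt_card_iff_nontrivial.1 h1
      obtain ⟨⟨g, hgA, hgB⟩, hg⟩ := exists_ne (1 : ↥(stabilizer G A ⊓ stabilizer G B))
      exact ⟨g, fun h => hg (Subtype.ext h), A, B, hB.symm, hgA, hgB⟩
    · intro N hN htrN
      by_contra hcon
      push Not at hcon
      have hNc : Nat.card N = q + 1 := by
        have h := (stabilizer N A).index_mul_card
        rw [index_stabilizer_of_transitive, hcon A, Subgroup.card_bot, mul_one, D.count] at h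
        exact h.symm
      have : Fact (Nat.Prime 2) := ⟨Nat.prime_two⟩
      obtain ⟨t, ht⟩ := exists_prime_orderOf_dvd_card' (G := N) 2
        (hNc ▸ by obtain ⟨w, hw⟩ := hodd; omega)
      -- conjugation by `A` is transitive on the nonidentity elements of `N`
      let f : ↥(A : Subgroup G) → {z : G // z ∈ N ∧ z ≠ 1} := fun u =>
        ⟨(u : G) * t * (u : G)⁻¹, hN.conj_mem _ t.2 _, fun h => by
          rw [conj_eq_one_iff, OneMemClass.coe_eq_one] at h
          rw [h, orderOf_one] at ht
          omega⟩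
      have hf : Function.Injective f := fun u v huv => by
        have h1 : (u : G) * t * (u : G)⁻¹ = v * t * (v : G)⁻¹ := congrArg Subtype.val huv
        by_contra hne
        have hne' : ((v⁻¹ * u : (A : Subgroup G)) : G) ≠ 1 := fun h =>
          hne (inv_mul_eq_one.1 (Subtype.ext h : v⁻¹ * u = 1)).symm
        have hc : Commute ((v⁻¹ * u : (A : Subgroup G)) : G) (t : G) := by
          rw [commute_iff_eq, Subgroup.coe_mul, Subgroup.coe_inv]
          calc (v : G)⁻¹ * u * t = (v : G)⁻¹ * ((u : G) * t * (u : G)⁻¹) * u := by group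
            _ = (v : G)⁻¹ * ((v : G) * t * (v : G)⁻¹) * u := by rw [h1]
            _ = t * ((v : G)⁻¹ * u) := by group
        have h2 := eq_one_of_commute hE (orderOf_of_mem hE A.2 (v⁻¹ * u).2 hne') hc (by
          rw [Subgroup.orderOf_coe, ht]
          exact fun h => hpodd ((Nat.prime_dvd_prime_iff_eq hp.out Nat.prime_two).1 h))
        rw [OneMemClass.coe_eq_one] at h2
        rw [h2, orderOf_one] at ht
        omega
      have hb : Function.Bijective f := (Nat.bijective_iff_injective_and_card _).2 ⟨hf, by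
        rw [D.sylow]
        show _ = Nat.card ↥((N : Set G) \ {1} : Set G)
        rw [Nat.card_coe_set_eq, Set.ncard_sdiff_singleton_of_mem (one_mem _),
          ← Nat.card_coe_set_eq]
        show q = Nat.card N - 1
        omega⟩
      have hsq : ∀ z ∈ N, z ^ 2 = 1 := by
        intro z hz
        by_cases h1 : z = 1
        · rw [h1, one_pow]
        obtain ⟨u, hu⟩ := hb.2 ⟨z, hz, h1⟩
        have hu' : (u : G) * t * (u : G)⁻¹ = z := congrArg Subtype.val hu
        rw [← hu', conj_pow, ← ht, ← Subgroup.orderOf_coe, pow_orderOf_eq_one, mul_one,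
          mul_inv_cancel]
      have hN2 : IsPGroup 2 N := fun z => ⟨1, Subtype.ext (by
        rw [pow_one, Subgroup.coe_pow, Subgroup.coe_one]; exact hsq _ z.2)⟩
      obtain ⟨b, hb'⟩ := IsPGroup.iff_card.1 hN2
      rw [hNc] at hb'
      have hb3 : 3 ≤ b := by
        by_contra h
        have : 2 ^ b ≤ 2 ^ 2 := Nat.pow_le_pow_right two_pos (by omega)
        omega
      obtain ⟨b', rfl⟩ := Nat.exists_eq_add_of_le hb3
      rw [pow_add] at hb'
      omega
  have hker : H28.Zass.IsKer A (A : Subgroup G) :=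
    ⟨fun u hu => Sylow.smul_eq_iff_mem_normalizer.2 (Subgroup.le_normalizer hu),
      by rw [D.sylow, D.count],
      fun u hu hu1 C hC => by
        by_contra hne
        exact hu1 (free_sylow hE hne hu hC)⟩
  obtain ⟨F', iF, iF', -, hF', ⟨φ⟩⟩ := H28.Zass.half_equiv hker hZ hB.symm hcomm
    (by rw [D.pair A B hB, D.sylow]; exact hhalf)
  exact ⟨φ.trans (H27.PermFamily.pslCongr (FiniteField.ringEquivOfCardEq
    (by rw [hF', D.sylow, hF])))⟩

end Cfsg.Agent.H46.PSLSquare
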