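import Cfsg.Agent.Linear.SLDegrees
import Cfsg.Agent.Linear.Simple
import Cfsg.Agent.CharBasic.Rep
import Cfsg.Agent.H2.ChiFour.DegThree
import Mathlib.RingTheory.Polynomial.Cyclotomic.Basic

/-!
`PSL(2,q)` with `q ≡ 1 (mod 4)` has no irreducible character of degree `(q - 1) / 2`.
-/

set_option autoImplicit false
set_option linter.unusedSectionVars false

namespace Cfsg.Agent.H46.PSLSquare

open Matrix Finset

/-- An operator of even order `n` affording the regular character has determinant `-1`. -/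
theorem det_neg_one {P : Type*} [Group P] [Finite P] {n : ℕ} (hn : 0 < n) (hev : Even n)
    (ρ : Representation ℂ P (Fin n → ℂ)) (s : P) (hs : s ^ n = 1)
    (hv : ∀ k, 0 < k → k < n → ρ.character (s ^ k) = 0) : LinearMap.det (ρ s) = -1 := by
  classical
  obtain ⟨B, μ, h1, h2, -⟩ := CharBasic.exists_eigenbasis_rep ρ s
  have hμ : ∀ i, μ i ^ n = 1 := fun i => by
    obtain ⟨c, hc⟩ := orderOf_dvd_of_pow_eq_one hs
    rw [hc, pow_mul, h2, one_pow]
  have hpow : ∀ (k : ℕ) i, ρ (s ^ k) (B i) = μ i ^ k • B i := fun k i => by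
    induction k with
    | zero => simp
    | succ k ih =>
      rw [pow_succ, map_mul, Module.End.mul_apply, h1, map_smul, ih, smul_smul, pow_succ']
  have hch : ∀ k, ρ.character (s ^ k) = ∑ i, μ i ^ k := fun k =>
    CharBasic.trace_eq_sum_of_eigenbasis B _ _ (hpow k)
  have hcount : ∀ ζ : ℂ, ζ ^ n = 1 → (univ.filter fun i => μ i = ζ).card = 1 := by
    intro ζ hζ
    have hz : ζ ≠ 0 := fun h => by
      rw [h, zero_pow hn.ne'] at hζ
      exact zero_ne_one hζ
    have hgeo : ∀ i, ∑ k ∈ range n, (μ i * ζ⁻¹) ^ k = if μ i = ζ then (n : ℂ) else 0 := fun i => by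
      split_ifs with h
      · simp [h, mul_inv_cancel₀ hz]
      · have hne : μ i * ζ⁻¹ ≠ 1 := fun e => h ((mul_inv_eq_one₀ hz).1 e)
        rw [geom_sum_eq hne, mul_pow, inv_pow, hζ, hμ, inv_one, mul_one, sub_self, zero_div]
    have hsum : ∑ i, ∑ k ∈ range n, (μ i * ζ⁻¹) ^ k = (n : ℂ) := by
      rw [Finset.sum_comm, Finset.sum_eq_single 0]
      · simp
      · intro k hk hk0
        simp only [mul_pow, ← Finset.sum_mul, ← hch]
        rw [hv k (Nat.pos_of_ne_zero hk0) (mem_range.1 hk), zero_mul]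
      · intro h
        simp [hn] at h
    simp only [hgeo, ← Finset.sum_filter, Finset.sum_const, nsmul_eq_mul] at hsum
    have := mul_eq_right₀ (show (n : ℂ) ≠ 0 by exact_mod_cast hn.ne') |>.1 hsum
    exact_mod_cast this
  have hprod : ∏ i, μ i = ∏ ζ ∈ Polynomial.nthRootsFinset n (1 : ℂ), ζ := by
    rw [← Finset.prod_fiberwise_of_maps_to (g := μ) (t := Polynomial.nthRootsFinset n (1 : ℂ))
      (fun i _ => (Polynomial.mem_nthRootsFinset hn 1).2 (hμ i)) μ]
    refine Finset.prod_congr rfl fun ζ hζ => ?_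
    rw [Finset.prod_congr rfl (fun i hi => (Finset.mem_filter.1 hi).2), Finset.prod_const,
      hcount ζ ((Polynomial.mem_nthRootsFinset hn 1).1 hζ), pow_one]
  have hroots : ∏ ζ ∈ Polynomial.nthRootsFinset n (1 : ℂ), ζ = -1 := by
    have h := congrArg (Polynomial.eval 0)
      (Polynomial.X_pow_sub_one_eq_prod hn (Complex.isPrimitiveRoot_exp n hn.ne'))
    have hc : (Polynomial.nthRootsFinset n (1 : ℂ)).card = n :=
      (Complex.isPrimitiveRoot_exp n hn.ne').card_nthRootsFinset
    simp [Polynomial.eval_prod, zero_pow hn.ne'] at h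
    rw [Finset.prod_congr rfl (fun (x : ℂ) _ => neg_eq_neg_one_mul x), Finset.prod_mul_distrib,
      Finset.prod_const, hc, hev.neg_one_pow, one_mul] at h
    exact h.symm
  rw [← LinearMap.det_toMatrix B, show LinearMap.toMatrix B B (ρ s) = Matrix.diagonal μ by
    ext i j
    rw [LinearMap.toMatrix_apply, h1 j, map_smul, Finsupp.smul_apply, B.repr_self,
      Finsupp.single_apply, Matrix.diagonal_apply]
    rcases eq_or_ne i j with rfl | hij
    · simp
    · simp [hij, Ne.symm hij], Matrix.det_diagonal, hprod, hroots]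

variable {F : Type*} [Field F] [Fintype F]

local notation "S2" => Matrix.SpecialLinearGroup (Fin 2) F
local notation "P2" => Matrix.ProjectiveSpecialLinearGroup (Fin 2) F

/-- No irreducible character of `PSL(2,q)` has degree `(q - 1) / 2` for `q ≡ 1 (mod 4)`. -/
theorem not_half_pred (hq4 : Fintype.card F % 4 = 1) {d : ℕ} (hd : d ∈ Cfsg.charDegrees P2) :
    2 * d + 1 ≠ Fintype.card F := by
  classical
  intro hdq
  obtain ⟨⟨ψ, hψ⟩, rfl⟩ := hd
  obtain ⟨n, ρ, hρ, rfl⟩ := hψ
  have hn : Cfsg.charDegree ρ.character = n :=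
    Linear.SLDegrees.charDegree_eq (by simp [Representation.char_one])
  rw [hn] at hdq
  have hodd : Odd (Fintype.card F) := Nat.odd_iff.2 (by omega)
  have h2 : (2 : F) ≠ 0 := Linear.two_ne_zero_of_odd_card hodd
  have hq : 5 ≤ Fintype.card F := by
    have := Fintype.one_lt_card (α := F)
    omega
  let π := QuotientGroup.mk' (Subgroup.center S2)
  have hirr : Cfsg.IsIrrCharacter S2 (ρ.character ∘ π) :=
    CharInduce.IsIrr.comp ⟨n, ρ, hρ, rfl⟩ π (QuotientGroup.mk'_surjective _)
  have hone : (ρ.character ∘ π) 1 = (n : ℂ) := by simp [Representation.char_one]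
  obtain ⟨d', hd', hc⟩ := H53.sl_cases_odd_nat h2 hirr
  obtain rfl : n = d' := Nat.cast_injective (R := ℂ) (hone.symm.trans hd')
  have hcusp : H53.IsCuspS (ρ.character ∘ π) := by
    rcases hc with ⟨-, e⟩ | ⟨-, e⟩ | ⟨-, e⟩ | ⟨-, e⟩ | ⟨h, -⟩ | ⟨h, -⟩
    all_goals first | exact h | omega
  obtain ⟨a, ha⟩ := IsCyclic.exists_generator (α := Fˣ)
  have hord : orderOf a = 2 * n := by
    rw [orderOf_eq_card_of_forall_mem_zpowers ha, Nat.card_units, Nat.card_eq_fintype_card]
    omega
  let f : Fˣ →* S2 :=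
    { toFun := fun b => H53.upS b 0
      map_one' := H53.upS_one
      map_mul' := fun b c => by
        apply Linear.SL_ext_two <;> simp [H53.coe_upS, Linear.mul_two_apply, mul_comm] }
  have han : a ^ n = -1 := by
    have h1 : (((a ^ n : Fˣ) : F)) ^ 2 = 1 := by
      rw [← Units.val_pow_eq_pow_val, ← pow_mul, mul_comm, ← hord, pow_orderOf_eq_one, Units.val_one]
    rcases sq_eq_one_iff.1 h1 with h | h
    · exact absurd (orderOf_dvd_of_pow_eq_one (Units.ext h))
        (fun h => by have := Nat.le_of_dvd (by omega) h; omega)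
    · exact Units.ext (by rw [h, Units.val_neg, Units.val_one])
  have hs : (π (f a)) ^ n = 1 := by
    rw [← map_pow, ← map_pow, han]
    refine (QuotientGroup.eq_one_iff _).2 (Subgroup.mem_center_iff.2 fun g => ?_)
    have : f (-1) = -1 := by
      apply Linear.SL_ext_two <;> simp [f, H53.coe_upS]
    rw [this, mul_neg_one, neg_one_mul]
  have hv : ∀ k, 0 < k → k < n → ρ.character ((π (f a)) ^ k) = 0 := by
    intro k hk hkn
    rw [← map_pow, ← map_pow]
    refine hcusp.diag (CharBasic.IsIrr.isClassFunction hirr) (g := f (a ^ k))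
      (by simp [f, H53.coe_upS]) (by simp [f, H53.coe_upS]) fun h => ?_
    have h' : a ^ (k * 2) = 1 := Units.ext (by simpa [f, H53.coe_upS, pow_mul] using h)
    have := Nat.le_of_dvd (by omega) (orderOf_dvd_of_pow_eq_one h')
    omega
  have h1 := det_neg_one (by omega) (Nat.even_iff.2 (by omega)) ρ (π (f a)) hs hv
  rw [H2.ChiFour.det_eq_one_of_perfect
    (Linear.commutator_PSL_eq_top (Or.inr (Linear.exists_sq_ne_one_of_card
      (by rw [Nat.card_eq_fintype_card]; omega)))) ρ] at h1
  norm_num at h1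

end Cfsg.Agent.H46.PSLSquare
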