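import Cfsg.Agent.Linear.SLDegrees
import Cfsg.Agent.H26.DefectZero
import Cfsg.Agent.H67.IsolatedPrime
import Cfsg.Agent.H69.M11.Tools

/-!
Groups with the character degrees of `PSL(2,p²)`: every element of order divisible by `p` has
order `p`.
-/

set_option autoImplicit false
set_option linter.unusedSectionVars false
set_option linter.style.haveILetI false

namespace Cfsg.Agent.H46.PSLSquare

open MulAction

section Chars

variable {G : Type*} [Group G] [Finite G]

local notation "D" χ:arg => Cfsg.charDegree (χ : G → ℂ)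

/-- A character whose degree carries the full `r`-part of the order vanishes where `r` divides the
order. -/
theorem vanish {r c : ℕ} (hr : r.Prime) (χ : Cfsg.IrrCharacter G)
    (hD : Nat.card G = D χ * c) (hc : ¬ r ∣ c) {y : G} (hy : r ∣ orderOf y) :
    (χ : G → ℂ) y = 0 := by
  obtain ⟨n, ρ, hρ, hχ⟩ := χ.2
  have : Fintype G := Fintype.ofFinite G
  have hn : D χ = n := Linear.SLDegrees.charDegree_eq (by rw [← hχ]; simp [Representation.char_one])
  rw [hn] at hD
  have hpow : r ^ (Nat.card G).factorization r ∣ Nat.card G := Nat.ordProj_dvd _ _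
  have hdvd : r ^ (Nat.card G).factorization r ∣ n := by
    refine Nat.Coprime.dvd_of_dvd_mul_right ?_ (hpow.trans (dvd_of_eq hD))
    exact (hr.coprime_iff_not_dvd.2 hc).pow_left _
  rw [← hχ]
  exact H26.defect_zero_vanish ρ hr hpow (Nat.pow_succ_factorization_not_dvd Nat.card_pos.ne' hr)
    (by rwa [Module.finrank_fin_fun]) hy

/-- Column orthogonality: at `y ≠ 1` the degrees of the non-vanishing nontrivial characters have
no common divisor. -/
theorem not_common_dvd {y : G} (hy : y ≠ 1) {m : ℕ} (hm : 1 < m)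
    (h : ∀ χ : Cfsg.IrrCharacter G, (χ : G → ℂ) ≠ (fun _ => 1) → (χ : G → ℂ) y = 0 ∨ m ∣ D χ) :
    False := by
  classical
  let one' : Cfsg.IrrCharacter G := ⟨_, CharBasic.isIrrCharacter_one⟩
  have hsum := CharBasic.sum_degree_mul_apply y
  rw [if_neg hy, ← Finset.add_sum_erase _ _ (Finset.mem_univ one')] at hsum
  have hm0 : (m : ℂ) ≠ 0 := Nat.cast_ne_zero.2 (by omega)
  have hint : IsIntegral ℤ ((-1 : ℂ) / m) := by
    rw [show (-1 : ℂ) / m = ∑ χ ∈ Finset.univ.erase one',
        (χ : G → ℂ) 1 * (χ : G → ℂ) y / (m : ℂ) by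
      rw [← Finset.sum_div]
      congr 1
      simp only [one', mul_one] at hsum ⊢
      linear_combination -hsum]
    refine IsIntegral.sum _ fun χ hχ => ?_
    rcases h χ fun e => Finset.ne_of_mem_erase hχ (Subtype.ext e) with h0 | ⟨k, hk⟩
    · rw [h0, mul_zero, zero_div]; exact isIntegral_zero
    · rw [Linear.SLDegrees.one_eq_charDegree χ, hk, Nat.cast_mul, mul_assoc,
        mul_div_cancel_left₀ _ hm0]
      exact (isIntegral_algebraMap (R := ℤ) (A := ℂ) (x := (k : ℤ))).mul
        (CharBasic.IsChar.isIntegral (CharBasic.IsIrr.isCharacter χ.2) y) |> fun h => by simpa using h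
  have hint' : IsIntegral ℤ ((-1 : ℚ) / m) := by
    refine (isIntegral_algebraMap_iff (B := ℂ) (algebraMap ℚ ℂ).injective).1 ?_
    simpa using hint
  obtain ⟨k, hk⟩ := IsIntegrallyClosed.isIntegral_iff.1 hint'
  rw [eq_div_iff (Nat.cast_ne_zero.2 (by omega : m ≠ 0))] at hk
  have hk' : k * (m : ℤ) = -1 := by
    rw [← Int.cast_inj (α := ℚ)]
    simpa using hk
  have : (m : ℤ) ∣ 1 := ⟨-k, by linear_combination hk'⟩
  have := Int.le_of_dvd one_pos this
  omega

end Chars

variable {G : Type*} [Group G] [Finite G] {p q g e h : ℕ} [hp : Fact p.Prime]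

theorem isolated_of_degrees (hq : q = p ^ 2) (hg2 : g ≤ 2) (hge : g * e = q - 1) (hgh : g * h = q + 1)
    (hcop : Nat.Coprime h (q - 1)) (hG : Nat.card G = q * h * (q - 1))
    (hdeg : ∀ χ : Cfsg.IrrCharacter G, (χ : G → ℂ) ≠ (fun _ => 1) →
      Cfsg.charDegree (χ : G → ℂ) = q ∨ Cfsg.charDegree (χ : G → ℂ) = q + 1 ∨
      Cfsg.charDegree (χ : G → ℂ) = q - 1 ∨ Cfsg.charDegree (χ : G → ℂ) = h) :
    H67.IsolatedPrime.Isolated p G := by
  classical
  have hp2 := hp.out.two_le
  have hq4 : 4 ≤ q := hq ▸ Nat.pow_le_pow_left hp2 2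
  have hpq : p ∣ q := hq ▸ dvd_pow_self p two_ne_zero
  have hpq1 : ¬ p ∣ q - 1 := fun hd => by
    have h2 := Nat.dvd_sub hpq hd
    rw [Nat.sub_sub_self (by omega : 1 ≤ q)] at h2
    exact hp.out.not_dvd_one h2
  have hph : ¬ p ∣ h := fun hd =>
    hp.out.not_dvd_one ((Nat.dvd_add_right hpq).1 (hgh ▸ hd.mul_left g))
  have hh1 : 1 < h := by
    by_contra hh
    have : g * h ≤ 2 * 1 := Nat.mul_le_mul hg2 (by omega)
    omega
  have hG' : Nat.card G = (q + 1) * (q * e) := by rw [hG, ← hgh, ← hge]; ring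
  -- every element of order divisible by `p` has prime power order
  have hsing : ∀ y : G, p ∣ orderOf y → ∀ r : ℕ, r.Prime → r ∣ orderOf y → r = p := by
    intro y hy r hr hry
    by_contra hrp
    have hy1 : y ≠ 1 := fun e => by rw [e, orderOf_one] at hry; exact hr.not_dvd_one hry
    have hrq : ¬ r ∣ q := fun hd => hrp ((Nat.prime_dvd_prime_iff_eq hr hp.out).1
      (hr.dvd_of_dvd_pow (hq ▸ hd)))
    have hvq : ∀ χ : Cfsg.IrrCharacter G, Cfsg.charDegree (χ : G → ℂ) = q → (χ : G → ℂ) y = 0 :=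
      fun χ hχ => vanish hp.out χ (c := h * (q - 1)) (by rw [hχ, hG, mul_assoc])
        (fun hd => (hp.out.dvd_mul.1 hd).elim hph hpq1) hy
    by_cases hrh : r ∣ h
    · have hrq1 : ¬ r ∣ q - 1 := fun hd => hr.not_dvd_one (hcop ▸ Nat.dvd_gcd hrh hd)
      refine not_common_dvd hy1 (m := q - 1) (by omega) fun χ hχ => ?_
      rcases hdeg χ hχ with hd | hd | hd | hd
      · exact Or.inl (hvq χ hd)
      · refine Or.inl (vanish hr χ (c := q * e) (by rw [hd, hG']) (fun hd' => ?_) hry)
        rcases hr.dvd_mul.1 hd' with h1 | h1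
        · exact hrq h1
        · exact hrq1 (hge ▸ h1.mul_left g)
      · exact Or.inr (hd ▸ dvd_rfl)
      · exact Or.inl (vanish hr χ (c := q * (q - 1)) (by rw [hd, hG]; ring)
          (fun hd' => (hr.dvd_mul.1 hd').elim hrq hrq1) hry)
    · refine not_common_dvd hy1 (m := h) hh1 fun χ hχ => ?_
      rcases hdeg χ hχ with hd | hd | hd | hd
      · exact Or.inl (hvq χ hd)
      · exact Or.inr (hd ▸ hgh ▸ dvd_mul_left h g)
      · exact Or.inl (vanish hr χ (c := q * h) (by rw [hd, hG]; ring)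
          (fun hd' => (hr.dvd_mul.1 hd').elim hrq hrh) hry)
      · exact Or.inr (hd ▸ dvd_rfl)
  have hpgroup : ∀ y : G, p ∣ orderOf y → ∃ k, orderOf y = p ^ k := fun y hy =>
    ⟨_, Nat.eq_prime_pow_of_unique_prime_dvd (orderOf_pos y).ne' fun hr hd => hsing y hy _ hr hd⟩
  have hP : ∀ A : Sylow p G, Nat.card (A : Subgroup G) = q := fun A => by
    rw [A.card_eq_multiplicity, hG, mul_assoc,
      Nat.factorization_mul (by omega) (Nat.mul_ne_zero (by omega) (by omega)),
      Finsupp.add_apply, Nat.factorization_eq_zero_of_not_dvd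
        (fun hd => (hp.out.dvd_mul.1 hd).elim hph hpq1), add_zero, hq,
      hp.out.factorization_pow, Finsupp.single_eq_same]
  have hcent : ∀ (A : Sylow p G) (x : G), x ∈ (A : Subgroup G) → x ≠ 1 →
      Subgroup.centralizer ({x} : Set G) = (A : Subgroup G) := by
    intro A x hx hx1
    have : IsMulCommutative (A : Subgroup G) :=
      IsPGroup.isMulCommutative_of_card_eq_prime_sq ((hP A).trans hq)
    have hpx : p ∣ orderOf x := by
      obtain ⟨k, hk⟩ := IsPGroup.iff_orderOf.1 A.2 ⟨x, hx⟩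
      rw [Subgroup.orderOf_mk] at hk
      exact hk ▸ dvd_pow_self p fun e => hx1 (orderOf_eq_one_iff.1 (by rw [hk, e, pow_zero]))
    refine A.3 (IsPGroup.iff_orderOf.2 fun y => ?_) fun y hy =>
      Subgroup.mem_centralizer_singleton_iff.2
        (congrArg Subtype.val (mul_comm' (⟨y, hy⟩ : (A : Subgroup G)) ⟨x, hx⟩))
    rw [← Subgroup.orderOf_coe]
    by_cases hyp : p ∣ orderOf (y : G)
    · exact hpgroup _ hyp
    · refine ⟨0, ?_⟩
      have hc : Commute x (y : G) := (Subgroup.mem_centralizer_singleton_iff.1 y.2).symm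
      obtain ⟨j, hj⟩ := IsPGroup.iff_orderOf.1 A.2 ⟨x, hx⟩
      rw [Subgroup.orderOf_mk] at hj
      have hco : (orderOf x).Coprime (orderOf (y : G)) :=
        hj ▸ (hp.out.coprime_iff_not_dvd.2 hyp).pow_left j
      have ho := hc.orderOf_mul_eq_mul_orderOf_of_coprime hco
      have hd : p ∣ orderOf (x * (y : G)) := ho ▸ hpx.mul_right _
      rw [pow_zero, Nat.eq_one_iff_not_exists_prime_dvd]
      intro r hr hry
      exact hyp (hsing _ hd r hr (ho ▸ hry.mul_left _) ▸ hry)
  intro y hy
  obtain ⟨k, hk⟩ := hpgroup y hy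
  obtain ⟨A, hA⟩ := (IsPGroup.of_card (n := k) (G := Subgroup.zpowers y)
    (by rw [Nat.card_zpowers, hk])).exists_le_sylow
  have hk2 : k ≤ 2 := by
    refine (Nat.pow_dvd_pow_iff_le_right hp.out.one_lt).1 ?_
    have hd := Subgroup.card_dvd_of_le hA
    rwa [Nat.card_zpowers, hk, hP, hq] at hd
  rcases (show k = 0 ∨ k = 1 ∨ k = 2 by omega) with rfl | rfl | rfl
  · rw [hk, pow_zero] at hy
    exact absurd hy hp.out.not_dvd_one
  · rw [hk, pow_one]
  exfalso
  have hAy : Subgroup.zpowers y = (A : Subgroup G) :=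
    Subgroup.eq_of_le_of_card_ge hA (by rw [Nat.card_zpowers, hk, hP, hq])
  have : IsCyclic (A : Subgroup G) := hAy ▸ Subgroup.isCyclic_zpowers y
  set N := Subgroup.normalizer ((A : Subgroup G) : Set G)
  set c := Nat.card (Sylow p G) with hc
  obtain ⟨k, hNk⟩ : q ∣ Nat.card N := hP A ▸ Subgroup.card_dvd_of_le Subgroup.le_normalizer
  have hck : c * k = h * (q - 1) := by
    have h1 : c * Nat.card N = q * h * (q - 1) := by
      rw [← hG, hc, A.card_eq_index_normalizer]
      exact Subgroup.index_mul_card _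
    rw [hNk, mul_left_comm, mul_assoc] at h1
    exact Nat.eq_of_mul_eq_mul_left (by omega) h1
  have hkp : ¬ p ∣ k := fun hd =>
    (hp.out.dvd_mul.1 (hck ▸ hd.mul_left c)).elim hph hpq1
  have hkp1 : k ∣ p - 1 := by
    have hker : (A : Subgroup G).normalizerMonoidHom.ker = (A : Subgroup G).subgroupOf N := by
      rw [Subgroup.normalizerMonoidHom_ker]
      ext z
      simp only [Subgroup.mem_subgroupOf]
      refine ⟨fun hz => ?_, fun hz => Subgroup.mem_centralizer_iff.2 fun a ha => ?_⟩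
      · have hyA : y ∈ (A : Subgroup G) := hA (Subgroup.mem_zpowers y)
        have hy1 : y ≠ 1 := fun e => by rw [e, orderOf_one] at hy; exact hp.out.not_dvd_one hy
        rw [← hcent A y hyA hy1, Subgroup.mem_centralizer_singleton_iff]
        exact (Subgroup.mem_centralizer_iff.1 hz y hyA).symm
      · obtain ⟨i, hi⟩ := Subgroup.mem_zpowers_iff.1 (hAy.ge hz)
        obtain ⟨j, rfl⟩ := Subgroup.mem_zpowers_iff.1 (hAy.ge (show a ∈ (A : Subgroup G) from ha))
        rw [← hi]
        exact (Commute.refl y).zpow_zpow j i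
    have hd := Subgroup.card_dvd_of_injective _
      (QuotientGroup.kerLift_injective (A : Subgroup G).normalizerMonoidHom)
    rw [hker, IsCyclic.card_mulAut, hP, hq, Nat.totient_prime_pow_succ hp.out 1, pow_one] at hd
    have hidx : ((A : Subgroup G).subgroupOf N).index = k := by
      have h1 := ((A : Subgroup G).subgroupOf N).card_mul_index
      rw [Nat.card_congr (Subgroup.subgroupOfEquivOfLe Subgroup.le_normalizer).toEquiv, hP,
        hNk] at h1
      exact Nat.eq_of_mul_eq_mul_left (by omega) h1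
    rw [← Subgroup.index, hidx] at hd
    exact (hp.out.coprime_iff_not_dvd.2 hkp).symm.dvd_of_dvd_mul_left hd
  have hqc : q ∣ c - 1 := by
    have hd := H69.M11.dvd_card_of_free (X := Sylow p G) (A : Subgroup G) ({A}ᶜ : Set (Sylow p G))
      (fun u hu B hB => by
        simp only [Set.mem_compl_iff, Set.mem_singleton_iff] at hB ⊢
        intro hB'
        exact hB (by
          rw [← inv_smul_smul u B, hB']
          exact Sylow.smul_eq_iff_mem_normalizer.2 (Subgroup.le_normalizer (inv_mem hu))))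
      (fun u hu B hB hB' => by
        by_contra hu1
        have hu2 : u ^ p ^ 2 = 1 := by
          rw [← hq, ← hP A]
          exact congrArg Subtype.val (pow_card_eq_one' (x := (⟨u, hu⟩ : (A : Subgroup G))))
        have huB := H69.M11.mem_sylow_of_smul_eq hu2 B hB'
        exact hB (Sylow.ext ((hcent B u huB hu1).symm.trans (hcent A u hu hu1))))
    rwa [hP, Nat.card_coe_set_eq, Set.ncard_compl, Set.ncard_singleton] at hd
  obtain ⟨a, ha⟩ := hqc
  have hc1 : c = 1 + q * a := by
    have : 0 < c := Nat.card_pos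
    omega
  have hk1 : 1 ≤ k := Nat.pos_of_ne_zero fun e => hkp (e ▸ dvd_zero p)
  have hkle : k ≤ p - 1 := Nat.le_of_dvd (by omega) hkp1
  have key : g * k + q * (g * (a * k)) + 1 = q * q := by
    have h1 : g * (c * k) = (q + 1) * (q - 1) := by rw [hck, ← mul_assoc, hgh]
    rw [hc1] at h1
    obtain ⟨q', hq'⟩ : ∃ q', q = q' + 1 := ⟨q - 1, by omega⟩
    rw [hq'] at h1 ⊢
    rw [Nat.add_sub_cancel] at h1
    linear_combination h1
  have hdiv : q ∣ g * k + 1 := (Nat.dvd_add_left (dvd_mul_right q (g * (a * k)))).1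
    ⟨q, by linarith⟩
  have h2 := Nat.le_of_dvd (by omega) hdiv
  have h3 : g * k ≤ 2 * (p - 1) := Nat.mul_le_mul hg2 hkle
  have h4 : 2 * p ≤ q := by rw [hq, sq]; exact Nat.mul_le_mul_right p hp2
  omega

end Cfsg.Agent.H46.PSLSquare
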