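import Cfsg.Agent.H46.PSLSquare.HalfDegree
import Cfsg.Agent.H46.PSLSquare.Isolation
import Cfsg.Agent.H46.PSLSquare.Finish

/-!
`PSL(2,p²)` is determined by the multiset of its character degrees.
-/

set_option autoImplicit false
set_option linter.unusedSectionVars false
set_option linter.style.haveILetI false

namespace Cfsg.Agent.H46.PSLSquare

open Cfsg.Agent.Linear

variable {F : Type*} [Field F] [Fintype F] {G : Type*} [Group G] [Finite G]

local notation "P2" => Matrix.ProjectiveSpecialLinearGroup (Fin 2) F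

theorem subtype_deg_iff {H : Type*} [Group H] [Finite H] (d : ℕ) (χ : Cfsg.IrrCharacter H) :
    (χ : H → ℂ) 1 = (d : ℂ) ↔ Cfsg.charDegree (χ : H → ℂ) = d := by
  rw [SLDegrees.one_eq_charDegree χ, Nat.cast_inj]

/-- Equal degree multisets give a degree preserving bijection. -/
theorem exists_equiv {H : Type*} [Group H] [Finite H]
    (h : ∀ d : ℕ, Nat.card {χ : Cfsg.IrrCharacter G // (χ : G → ℂ) 1 = (d : ℂ)} =
      Nat.card {χ : Cfsg.IrrCharacter H // (χ : H → ℂ) 1 = (d : ℂ)}) :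
    ∃ e : Cfsg.IrrCharacter G ≃ Cfsg.IrrCharacter H,
      ∀ χ, (e χ : H → ℂ) 1 = (χ : G → ℂ) 1 := by
  let f : Cfsg.IrrCharacter G → ℕ := fun χ => Cfsg.charDegree (χ : G → ℂ)
  let f' : Cfsg.IrrCharacter H → ℕ := fun χ => Cfsg.charDegree (χ : H → ℂ)
  have hd : ∀ d, Nonempty ({χ // f χ = d} ≃ {χ // f' χ = d}) := fun d => by
    have := h d
    rw [Nat.card_congr (Equiv.subtypeEquivRight (subtype_deg_iff d)),
      Nat.card_congr (Equiv.subtypeEquivRight (subtype_deg_iff d))] at this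
    exact Finite.card_eq.1 this
  refine ⟨Equiv.ofFiberEquiv (f := f) (g := f') (fun d => (hd d).some), fun χ => ?_⟩
  rw [SLDegrees.one_eq_charDegree, SLDegrees.one_eq_charDegree]
  exact congrArg _ (Equiv.ofFiberEquiv_map (f := f) (g := f') (fun d => (hd d).some) χ)

/-- `PSL(2,q)` has only the trivial linear character. -/
theorem eq_one_of_linear (hq : 4 ≤ Fintype.card F) (χ : Cfsg.IrrCharacter P2)
    (h1 : (χ : P2 → ℂ) 1 = 1) : (χ : P2 → ℂ) = fun _ => 1 := by
  obtain ⟨n, ρ, hρ, hχ⟩ := χ.2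
  obtain rfl : n = 1 := by
    rw [← hχ, Representation.char_one, Module.finrank_fin_fun] at h1
    exact_mod_cast h1
  have hperf := Linear.commutator_PSL_eq_top (ι := Fin 2) (F := F)
    (Or.inr (Linear.exists_sq_ne_one_of_card (by rw [Nat.card_eq_fintype_card]; omega)))
  refine funext fun g => ?_
  have hd := H2.ChiFour.det_eq_one_of_perfect hperf ρ g
  rw [← LinearMap.det_toMatrix', Matrix.det_fin_one] at hd
  rw [← hχ]
  show LinearMap.trace ℂ (Fin 1 → ℂ) (ρ g) = 1
  rw [LinearMap.trace_eq_matrix_trace ℂ (Pi.basisFun ℂ (Fin 1)), LinearMap.toMatrix_eq_toMatrix',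
    Matrix.trace_fin_one, hd]

theorem psl_degree_cases (hq4 : 4 ≤ Fintype.card F)
    (hmod : Fintype.card F % 2 = 1 → Fintype.card F % 4 = 1) (χ : Cfsg.IrrCharacter P2)
    (hne : (χ : P2 → ℂ) ≠ fun _ => 1) :
    Cfsg.charDegree (χ : P2 → ℂ) = Fintype.card F ∨
    Cfsg.charDegree (χ : P2 → ℂ) = Fintype.card F + 1 ∨
    Cfsg.charDegree (χ : P2 → ℂ) = Fintype.card F - 1 ∨
    (Fintype.card F % 2 = 1 ∧ 2 * Cfsg.charDegree (χ : P2 → ℂ) = Fintype.card F + 1) := by
  classical
  have hmem : Cfsg.charDegree (χ : P2 → ℂ) ∈ Cfsg.charDegrees P2 := ⟨χ, rfl⟩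
  rcases SLDegrees.degree_cases (SLDegrees.charDegrees_PSL_subset hmem) with e | e | e | e | ⟨-, e⟩
  · exact absurd (eq_one_of_linear hq4 χ (by rw [SLDegrees.one_eq_charDegree, e, Nat.cast_one])) hne
  · exact Or.inl e
  · exact Or.inr (Or.inl e)
  · exact Or.inr (Or.inr (Or.inl (by omega)))
  · rcases e with e | e
    · exact Or.inr (Or.inr (Or.inr ⟨by omega, e⟩))
    · exact absurd e (not_half_pred (hmod (by omega)) hmem)

/-- The theorem. -/
theorem main {p : ℕ} (hp : p.Prime) (hF : Fintype.card F = p ^ 2)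
    (h : ∀ d : ℕ, Nat.card {χ : Cfsg.IrrCharacter G // (χ : G → ℂ) 1 = (d : ℂ)} =
      Nat.card {χ : Cfsg.IrrCharacter P2 // (χ : P2 → ℂ) 1 = (d : ℂ)}) :
    Nonempty (G ≃* P2) := by
  classical
  haveI := Fact.mk hp
  set q := Fintype.card F with hq
  obtain ⟨eχ, heχ⟩ := exists_equiv h
  have hq4 : 4 ≤ q := hF ▸ Nat.pow_le_pow_left hp.two_le 2
  have hcard : Nat.card G = Nat.card P2 := by
    rw [← Nat.cast_inj (R := ℂ), ← CharBasic.sum_sq_degree, ← CharBasic.sum_sq_degree]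
    exact Fintype.sum_equiv eχ _ _ fun χ => by rw [heχ]
  have h14 : q % 2 = 1 → q % 4 = 1 := fun ho => by
    obtain ⟨w, hw⟩ : Odd p := Nat.odd_iff.2 (by rw [hF, Nat.pow_mod] at ho; rcases Nat.mod_two_eq_zero_or_one p with e | e <;> simp_all)
    rw [hF, hw, show (2 * w + 1) ^ 2 = 4 * (w * w + w) + 1 by ring]
    omega
  have hmul := Linear.card_PSL_two_mul (F := F)
  rw [← hcard, ← hq] at hmul
  have hsq : q ^ 2 - 1 = (q + 1) * (q - 1) := by rw [← Nat.sq_sub_sq, one_pow]
  have hdegG : ∀ χ : Cfsg.IrrCharacter G, (χ : G → ℂ) ≠ (fun _ => 1) →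
      Cfsg.charDegree (χ : G → ℂ) = q ∨ Cfsg.charDegree (χ : G → ℂ) = q + 1 ∨
      Cfsg.charDegree (χ : G → ℂ) = q - 1 ∨
      (q % 2 = 1 ∧ 2 * Cfsg.charDegree (χ : G → ℂ) = q + 1) := by
    intro χ hχ
    have he : Cfsg.charDegree (χ : G → ℂ) = Cfsg.charDegree (eχ χ : P2 → ℂ) := by
      rw [Cfsg.charDegree, Cfsg.charDegree, heχ]
    rw [he]
    refine psl_degree_cases hq4 h14 _ fun htriv => hχ ?_
    let one' : Cfsg.IrrCharacter G := ⟨_, CharBasic.isIrrCharacter_one⟩
    have h1 : eχ χ = eχ one' := Subtype.ext (htriv.trans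
      (eq_one_of_linear hq4 _ (by rw [heχ])).symm)
    exact congrArg Subtype.val (eχ.injective h1)
  rcases Nat.mod_two_eq_zero_or_one q with hev | hodd
  · -- `q = 4`
    have hp2 : p = 2 := by
      rcases hp.eq_two_or_odd with e | e
      · exact e
      · rw [hF, Nat.pow_mod, e] at hev; simp at hev
    subst hp2
    have hq' : q = 4 := by rw [hF]; norm_num
    have hgcd : Nat.gcd 2 (q - 1) = 1 := by rw [hq']; norm_num
    rw [hgcd, one_mul, hsq] at hmul
    have hE : H67.IsolatedPrime.Isolated 2 G := isolated_of_degrees (q := q) (g := 1) (e := q - 1)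
      (h := q + 1) hF (by norm_num) (one_mul _) (one_mul _) (by rw [hq']; norm_num)
      (by rw [hmul]; ring) fun χ hχ => by
        rcases hdegG χ hχ with e | e | e | ⟨e, -⟩
        · exact Or.inl e
        · exact Or.inr (Or.inl e)
        · exact Or.inr (Or.inr (Or.inl e))
        · omega
    refine H67.PSLTwoByOrder.nonempty_psl hF (by norm_num) hq4
      (by rw [hgcd, one_mul, hmul, hsq]) hE ?_ rfl
    haveI := Fact.mk Nat.prime_five
    obtain ⟨g, hg⟩ := exists_prime_orderOf_dvd_card' (G := G) 5 (by rw [hmul, hq']; norm_num)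
    exact ⟨g, by rw [hgcd, hg, hq']⟩
  · have hgcd : Nat.gcd 2 (q - 1) = 2 := Nat.gcd_eq_left (by omega)
    rw [hgcd] at hmul
    obtain ⟨e, he⟩ : 2 ∣ q - 1 := by omega
    obtain ⟨m, hm⟩ : 2 ∣ q + 1 := by omega
    have h4 := h14 hodd
    have hcop : Nat.Coprime m (q - 1) := Nat.coprime_of_dvd fun k hk hkm hkq => by
      have h1 : k ∣ q + 1 := hm ▸ hkm.mul_left 2
      have h2 := Nat.dvd_sub h1 hkq
      rw [show q + 1 - (q - 1) = 2 by omega] at h2
      obtain rfl := (Nat.prime_dvd_prime_iff_eq hk Nat.prime_two).1 h2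
      omega
    have hG : Nat.card G = q * m * (q - 1) := by
      refine Nat.eq_of_mul_eq_mul_left two_pos ?_
      rw [hmul, hsq, hm]; ring
    have hE : H67.IsolatedPrime.Isolated p G := isolated_of_degrees (g := 2) hF le_rfl he.symm
      hm.symm hcop hG fun χ hχ => by
        rcases hdegG χ hχ with e | e | e | ⟨-, e⟩
        · exact Or.inl e
        · exact Or.inr (Or.inl e)
        · exact Or.inr (Or.inr (Or.inl e))
        · exact Or.inr (Or.inr (Or.inr (by omega)))
    exact nonempty_psl_one_mod_four hF (by norm_num) hq4 (by rw [hgcd, hmul]) hE h4 rfl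

end Cfsg.Agent.H46.PSLSquare
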